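import Cfsg.Agent.SuzukiUniq.TI
import Cfsg.Agent.S0205
import Cfsg.Agent.S0035
import Cfsg.Agent.S0042
import Cfsg.Agent.S0231
import Cfsg.Agent.Invol.ZStar
import Cfsg.Agent.Invol.Isolated
import Cfsg.Prelude.Def_Sz

/-!
# Groups in which each maximal solvable subgroup is abelian or of Frobenius type
-/

set_option autoImplicit false

open scoped Pointwise

namespace Cfsg.Agent.FrobSystem

open Subgroup
open scoped commutatorElement
open Cfsg.Agent.Fg24.CT (Inv2)

variable {G : Type*} [Group G]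

/-- A maximal solvable subgroup with its distinguished normal subgroup. -/
structure Pair (M K : Subgroup G) : Prop where
  le : K ≤ M
  norm : M ≤ normalizer (K : Set G)
  fpf : ∀ a ∈ M, a ∉ K → ∀ x ∈ K, x * a = a * x → x = 1
  ti : ∀ g : G, g ∉ M → K ⊓ (MulAut.conj g • K) = ⊥

theorem Pair.conj_mem {M K : Subgroup G} (H : Pair M K) {g : G} (hg : g ∈ M) {x : G} (hx : x ∈ K) :
    g * x * g⁻¹ ∈ K := (mem_normalizer_iff.mp (H.norm hg) x).mp hx

theorem Pair.mem_of_conj {M K : Subgroup G} (H : Pair M K) {g x : G} (hx : x ∈ K) (hx1 : x ≠ 1)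
    (hgx : g * x * g⁻¹ ∈ K) : g ∈ M := by
  by_contra hg
  have h1 : g * x * g⁻¹ ∈ K ⊓ (MulAut.conj g • K) := ⟨hgx, Coprime.conj_mem_conj_smul hx⟩
  rw [H.ti g hg, mem_bot] at h1
  exact hx1 (conj_eq_one_iff.mp h1)

theorem Pair.cent_le {M K : Subgroup G} (H : Pair M K) {g x : G} (hx : x ∈ K) (hx1 : x ≠ 1)
    (hgx : Commute g x) : g ∈ K := by
  have hgM : g ∈ M := H.mem_of_conj hx hx1 (by rw [hgx.eq, mul_inv_cancel_right]; exact hx)
  by_contra hg
  exact hx1 (H.fpf g hgM hg x hx hgx.eq.symm)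

theorem isSolvable_of_extension {K : Subgroup G} [K.Normal] (hK : Group.IsSolvable K)
    (hQ : Group.IsSolvable (G ⧸ K)) : Group.IsSolvable G :=
  solvable_of_ker_le_range K.subtype (QuotientGroup.mk' K)
    (by rw [QuotientGroup.ker_mk', Subgroup.range_subtype])

theorem le_normal_sylow [Finite G] {p : ℕ} [Fact p.Prime] (T : Sylow p G)
    [(T : Subgroup G).Normal] {P : Subgroup G} (hP : IsPGroup p P) : P ≤ T :=
  sup_eq_right.mp (T.is_maximal' (hP.to_sup_of_normal_right T.2) le_sup_right)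

variable [Finite G]

theorem exists_maximal_solvable (A : Subgroup G) (hA : Group.IsSolvable A) :
    ∃ M : Subgroup G, A ≤ M ∧ Group.IsSolvable M ∧ ∀ M' : Subgroup G, M < M' → ¬ Group.IsSolvable M' := by
  obtain ⟨M, hAM, hM⟩ := Finite.exists_le_maximal (p := fun H : Subgroup G => Group.IsSolvable H) hA
  exact ⟨M, hAM, hM.prop, fun M' hlt h => hM.not_gt h hlt⟩

theorem isSolvable_normalizer_sylow (S : Sylow 2 G) :
    Group.IsSolvable (normalizer ((S : Subgroup G) : Set G)) := by
  haveI : Fact (Nat.Prime 2) := ⟨Nat.prime_two⟩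
  set N := normalizer ((S : Subgroup G) : Set G)
  let T : Sylow 2 N := S.subtype le_normalizer
  haveI : (T : Subgroup N).Normal := by
    rw [Sylow.coe_subtype]
    exact inferInstanceAs ((S : Subgroup G).subgroupOf N).Normal
  haveI : Group.IsNilpotent (T : Subgroup N) := T.2.isNilpotent
  refine isSolvable_of_extension (K := (T : Subgroup N)) inferInstance (S0205.result ?_)
  rw [← Subgroup.index_eq_card, Nat.odd_iff, ← Nat.two_dvd_ne_zero]
  exact T.not_dvd_index

theorem complement_ne {M K : Subgroup G} (H : Pair M K) (hns : ¬ Group.IsSolvable G)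
    (hM : Group.IsSolvable M) (hM1 : M ≠ ⊥) : K ≠ M := by
  intro h
  subst h
  have hfc : Cfsg.IsFrobeniusComplement K := ⟨hM1, fun h => hns (by
    rw [h] at hM
    exact solvable_of_surjective (f := (⊤ : Subgroup G).subtype) fun g => ⟨⟨g, mem_top g⟩, rfl⟩),
    H.ti⟩
  obtain ⟨N, hN, hNn, hNc⟩ := S0035.result K hfc
  obtain ⟨N', hN', -, hnil⟩ := S0042.result K hfc
  obtain rfl : N' = N := SetLike.coe_injective (hN'.trans hN.symm)
  haveI := hNn
  haveI := hnil
  refine hns (isSolvable_of_extension (K := N') inferInstance ?_)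
  exact solvable_of_surjective (f := (IsComplement'.QuotientMulEquiv hNc.symm).symm.toMonoidHom)
    (MulEquiv.surjective _)

theorem main (hns : ¬ Group.IsSolvable G)
    (h : ∀ M : Subgroup G, Group.IsSolvable M → (∀ M' : Subgroup G, M < M' → ¬ Group.IsSolvable M') →
      ∃ K, Pair M K ∧ (K ≠ ⊥ ∨ IsMulCommutative M)) :
    (∃ (F : Type) (_ : Field F) (_ : Fintype F), CharP F 2 ∧ 4 ≤ Fintype.card F ∧
      Nonempty (G ≃* Matrix.SpecialLinearGroup (Fin 2) F)) ∨ Cfsg.Lie.IsoSuzuki G := by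
  classical
  haveI h2fact : Fact (Nat.Prime 2) := ⟨Nat.prime_two⟩
  obtain ⟨S⟩ : Nonempty (Sylow 2 G) := inferInstance
  have heven : 2 ∣ Nat.card G := by
    by_contra h2
    exact hns (S0205.result (Nat.odd_iff.mpr (Nat.two_dvd_ne_zero.mp h2)))
  have hS1 : (S : Subgroup G) ≠ ⊥ := S.ne_bot_of_dvd_card heven
  obtain ⟨M, hNM, hMsol, hMmax⟩ := exists_maximal_solvable _ (isSolvable_normalizer_sylow S)
  have hSM : (S : Subgroup G) ≤ M := le_normalizer.trans hNM
  obtain ⟨K, H, hK⟩ := h M hMsol hMmax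
  -- `M` is not abelian
  have hnab : ¬ IsMulCommutative M := by
    intro hc
    haveI := hc
    have hcen : normalizer ((S : Subgroup G) : Set G) ≤ centralizer ((S : Subgroup G) : Set G) :=
      fun x hx => mem_centralizer_iff.mpr fun s hs =>
        congrArg Subtype.val (hc.is_comm.comm (⟨s, hSM hs⟩ : M) ⟨x, hNM hx⟩)
    have hcomp := MonoidHom.ker_transferSylow_isComplement' S hcen
    set T := (MonoidHom.transferSylow S hcen).ker
    haveI : Group.IsNilpotent (S : Subgroup G) := S.2.isNilpotent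
    refine hns (isSolvable_of_extension (K := T) (S0205.result ?_) ?_)
    · have h1 := hcomp.index_eq_card
      rw [Nat.odd_iff, ← Nat.two_dvd_ne_zero, ← h1]
      exact S.not_dvd_index
    · exact solvable_of_surjective (f := (IsComplement'.QuotientMulEquiv hcomp.symm).symm.toMonoidHom)
        (MulEquiv.surjective _)
  have hK1 : K ≠ ⊥ := hK.resolve_right hnab
  have hM1 : M ≠ ⊥ := fun e => hK1 (le_bot_iff.mp (e ▸ H.le))
  have hKM : K ≠ M := complement_ne H hns hMsol hM1
  have hMtop : M ≠ ⊤ := fun e => hns (by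
    rw [e] at hMsol
    exact solvable_of_surjective (f := (⊤ : Subgroup G).subtype) fun g => ⟨⟨g, mem_top g⟩, rfl⟩)
  -- the soluble radical is trivial
  have hR : ∀ A : Subgroup G, A.Normal → Group.IsSolvable A → A = ⊥ := by
    suffices hab : ∀ A : Subgroup G, A.Normal → (∀ x ∈ A, ∀ y ∈ A, x * y = y * x) → A = ⊥ by
      intro A hA hAs
      haveI := hA
      by_contra hA1
      obtain ⟨n, hn⟩ := (Group.isSolvable_def A).mp hAs
      have hex : ∃ n, (derivedSeries A n).map A.subtype = ⊥ := ⟨n, by rw [hn, Subgroup.map_bot]⟩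
      have hfind := Nat.find_spec hex
      have hpos : Nat.find hex ≠ 0 := fun e0 => hA1 (by
        rw [e0, derivedSeries_zero, ← MonoidHom.range_eq_map, Subgroup.range_subtype] at hfind
        exact hfind)
      obtain ⟨k, hk⟩ := Nat.exists_eq_succ_of_ne_zero hpos
      set B := (derivedSeries A k).map A.subtype
      have hBc : ∀ x ∈ B, ∀ y ∈ B, x * y = y * x := by
        rintro _ ⟨x, hx, rfl⟩ _ ⟨y, hy, rfl⟩
        rw [hk, derivedSeries_succ, Subgroup.map_eq_bot_iff_of_injective _ A.subtype_injective] at hfind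
        have : ⁅x, y⁆ ∈ (⊥ : Subgroup A) := hfind ▸ commutator_mem_commutator hx hy
        rw [← map_mul, ← map_mul, commutatorElement_eq_one_iff_mul_comm.mp (mem_bot.mp this)]
      have hBn : B.Normal := inferInstanceAs ((derivedSeries A k).map A.subtype).Normal
      exact Nat.find_min hex (by omega : k < Nat.find hex) (hab B hBn hBc)
    intro A hA hAc
    haveI := hA
    by_contra hA1
    haveI : Group.IsSolvable A := Group.isSolvable_of_comm fun x y => Subtype.ext (hAc x x.2 y y.2)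
    have hAM : A ≤ M := by
      by_contra hAM
      refine hMmax (M ⊔ A) (lt_of_le_of_ne le_sup_left fun e0 => hAM (e0 ▸ le_sup_right)) ?_
      haveI : Group.IsSolvable (A.subgroupOf (M ⊔ A)) :=
        solvable_of_surjective (f := (subgroupOfEquivOfLe (le_sup_right : A ≤ M ⊔ A)).symm.toMonoidHom)
          (MulEquiv.surjective _)
      refine isSolvable_of_extension (K := A.subgroupOf (M ⊔ A)) inferInstance ?_
      exact solvable_of_surjective (f := (QuotientGroup.quotientInfEquivProdNormalQuotient M A).toMonoidHom.comp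
        (QuotientGroup.mk' (A.subgroupOf M)))
        (fun y => by
          obtain ⟨w, hw⟩ := (QuotientGroup.quotientInfEquivProdNormalQuotient M A).surjective y
          obtain ⟨v, rfl⟩ := QuotientGroup.mk'_surjective (A.subgroupOf M) w
          exact ⟨v, hw⟩)
    have hAK : ∀ a ∈ A, a ∈ K := by
      intro a ha
      by_cases hd : ∃ x ∈ A, x ∈ K ∧ x ≠ 1
      · obtain ⟨x, hxA, hxK, hx1⟩ := hd
        exact H.cent_le hxK hx1 (hAc a ha x hxA)
      · exfalso
        obtain ⟨k, hk, hk1⟩ := (Subgroup.bot_or_exists_ne_one K).resolve_left hK1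
        obtain ⟨c, hc, hc1⟩ := (Subgroup.bot_or_exists_ne_one A).resolve_left hA1
        refine hd ⟨c, hc, ?_, hc1⟩
        refine H.cent_le hk hk1 ?_
        have hu : c * k * c⁻¹ * k⁻¹ = 1 := by
          by_contra hu
          refine hd ⟨_, ?_, K.mul_mem (H.conj_mem (hAM hc) hk) (K.inv_mem hk), hu⟩
          rw [show c * k * c⁻¹ * k⁻¹ = c * (k * c⁻¹ * k⁻¹) by group]
          exact A.mul_mem hc (hA.conj_mem _ (A.inv_mem hc) k)
        show c * k = k * c
        calc c * k = c * k * c⁻¹ * k⁻¹ * (k * c) := by group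
          _ = k * c := by rw [hu, one_mul]
    refine hMtop (eq_top_iff.mpr fun g _ => ?_)
    obtain ⟨c, hc, hc1⟩ := (Subgroup.bot_or_exists_ne_one A).resolve_left hA1
    exact H.mem_of_conj (hAK c hc) hc1 (hAK _ (hA.conj_mem c hc g))
  -- two involutions in the Sylow subgroup
  obtain ⟨z, hzord⟩ := exists_prime_orderOf_dvd_card' (G := center (S : Subgroup G)) 2 (by
    haveI : Nontrivial (S : Subgroup G) := (nontrivial_iff_ne_bot _).mpr hS1
    haveI := S.2.center_nontrivial
    obtain ⟨k, hk⟩ := (S.2.to_subgroup (center (S : Subgroup G))).exists_card_eq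
    rcases k with _ | k
    · exact absurd hk (by rw [pow_zero]; exact Finite.one_lt_card.ne')
    · exact hk ▸ dvd_pow_self 2 k.succ_ne_zero)
  set a : G := ((z : (S : Subgroup G)) : G) with hadef
  have haS : a ∈ (S : Subgroup G) := (z : (S : Subgroup G)).2
  have ha2 : orderOf a = 2 := by rw [hadef, Subgroup.orderOf_coe, Subgroup.orderOf_coe, hzord]
  have haz : ∀ s ∈ (S : Subgroup G), Commute s a := fun s hs =>
    congrArg Subtype.val (mem_center_iff.mp z.2 ⟨s, hs⟩)
  obtain ⟨b, hbS, hb2, hab⟩ : ∃ b ∈ (S : Subgroup G), orderOf b = 2 ∧ b ≠ a := by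
    by_contra hcon
    push Not at hcon
    have hiso := Invol.isolated_of_sylow S ha2 fun g hg => hcon _ hg ((Invol.orderOf_conj g a).trans ha2)
    have hO : Cfsg.oddCore G = ⊥ := hR _ inferInstance (S0205.result (Nat.odd_iff.2
      (Nat.two_dvd_ne_zero.1 Cfsg.Agent.Core.not_dvd_card_pPrimeCore)))
    have hac : a ∈ center G := mem_center_iff.mpr fun g => by
      have h1 := Invol.zstar hiso g
      rw [hO, mem_bot, mul_inv_eq_one, mul_inv_eq_iff_eq_mul] at h1
      exact h1.symm
    have := hR (center G) inferInstance (Group.isSolvable_of_comm fun x y => Subtype.ext (mem_center_iff.mp y.2 x))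
    rw [this, mem_bot] at hac
    rw [hac, orderOf_one] at ha2
    omega
  have ha1 : a ≠ 1 := fun e => by rw [e, orderOf_one] at ha2; omega
  have hb1 : b ≠ 1 := fun e => by rw [e, orderOf_one] at hb2; omega
  have haa : a * a = 1 := by rw [← pow_two, ← ha2]; exact pow_orderOf_eq_one a
  have hbb : b * b = 1 := by rw [← pow_two, ← hb2]; exact pow_orderOf_eq_one b
  have hcomm : Commute b a := haz b hbS
  -- an involution acting without fixed points inverts
  have hinv : ∀ t ∈ M, t * t = 1 → t ∉ K → ∀ x ∈ K, t * x * t⁻¹ = x⁻¹ := by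
    intro t htM ht2 htK x hx
    have hti : t⁻¹ = t := inv_eq_of_mul_eq_one_right ht2
    let f : K → K := fun y => ⟨(y : G)⁻¹ * (t * y * t⁻¹), K.mul_mem (K.inv_mem y.2) (H.conj_mem htM y.2)⟩
    have hf : Function.Injective f := fun y y' e0 => by
      have e1 : (y : G)⁻¹ * (t * y * t⁻¹) = (y' : G)⁻¹ * (t * y' * t⁻¹) := congrArg Subtype.val e0
      refine Subtype.ext (mul_inv_eq_one.mp (H.fpf t htM htK _ (K.mul_mem y'.2 (K.inv_mem y.2)) ?_)).symm
      calc (y' : G) * (y : G)⁻¹ * t = y' * ((y : G)⁻¹ * (t * y * t⁻¹)) * (t * (y : G)⁻¹) := by group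
        _ = y' * ((y' : G)⁻¹ * (t * y' * t⁻¹)) * (t * (y : G)⁻¹) := by rw [e1]
        _ = t * (y' * (y : G)⁻¹) := by group
    obtain ⟨y, hy⟩ := (Finite.injective_iff_surjective.mp hf) ⟨x, hx⟩
    have hy' : (y : G)⁻¹ * (t * y * t⁻¹) = x := congrArg Subtype.val hy
    rw [← hy', hti, mul_inv_rev, inv_inv, mul_inv_rev, mul_inv_rev, hti]
    calc t * ((y : G)⁻¹ * (t * y * t)) * t = t * (y : G)⁻¹ * t * y * (t * t) := by simp [mul_assoc]
      _ = t * ((y : G)⁻¹ * t) * y := by rw [ht2]; simp [mul_assoc]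
  have hKinv : ∃ t ∈ (S : Subgroup G), t ∈ K ∧ t ≠ 1 := by
    by_contra hcon
    push Not at hcon
    have haK : a ∉ K := fun e => ha1 (hcon a haS e)
    have hbK : b ∉ K := fun e => hb1 (hcon b hbS e)
    have hcK : a * b ∉ K := fun e => hab (by
      have := hcon (a * b) (mul_mem haS hbS) e
      rw [mul_eq_one_iff_eq_inv'] at this
      rw [this, inv_eq_of_mul_eq_one_right haa])
    obtain ⟨x, hx, hx1⟩ := (Subgroup.bot_or_exists_ne_one K).resolve_left hK1
    refine hx1 (H.fpf (a * b) (mul_mem (hSM haS) (hSM hbS)) hcK x hx ?_)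
    have e1 := hinv a (hSM haS) haa haK (x⁻¹) (K.inv_mem hx)
    have e2 := hinv b (hSM hbS) hbb hbK x hx
    rw [inv_inv] at e1
    have e3 : (a * b) * x * (a * b)⁻¹ = x := by
      calc (a * b) * x * (a * b)⁻¹ = a * (b * x * b⁻¹) * a⁻¹ := by group
        _ = x := by rw [e2, e1]
    exact (mul_inv_eq_iff_eq_mul.mp e3).symm
  have hSK : (S : Subgroup G) ≤ K := by
    obtain ⟨t, htS, htK, ht1⟩ := hKinv
    have hn : ((K ⊓ S).subgroupOf (S : Subgroup G)).Normal := ⟨fun m hm s => by
      refine ⟨?_, ((s * m * s⁻¹ : (S : Subgroup G))).2⟩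
      exact H.conj_mem (hSM s.2) hm.1⟩
    haveI := hn
    have hne : (K ⊓ S).subgroupOf (S : Subgroup G) ≠ ⊥ := fun e0 => ht1 (by
      have hmem : (⟨t, htS⟩ : (S : Subgroup G)) ∈ (K ⊓ S).subgroupOf (S : Subgroup G) := ⟨htK, htS⟩
      rw [e0, mem_bot] at hmem
      exact congrArg Subtype.val hmem)
    haveI : Group.IsNilpotent (S : Subgroup G) := S.2.isNilpotent
    obtain ⟨c, hc, hcc, hc1⟩ : ∃ c : (S : Subgroup G), (c : G) ∈ K ∧ c ∈ center (S : Subgroup G) ∧ c ≠ 1 := by
      have hnd : ¬ Disjoint ((K ⊓ S).subgroupOf (S : Subgroup G)) (center (S : Subgroup G)) := by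
        intro hd
        exact Core.inf_center_ne_bot hne hd.eq_bot
      rw [disjoint_iff] at hnd
      obtain ⟨c, hc, hc1⟩ := (Subgroup.bot_or_exists_ne_one _).resolve_left hnd
      exact ⟨c, hc.1.1, hc.2, hc1⟩
    intro s hs
    exact H.cent_le hc (fun e0 => hc1 (Subtype.ext e0))
      (congrArg Subtype.val (mem_center_iff.mp hcc ⟨s, hs⟩))
  -- `K` is nilpotent
  haveI hKn : (K.subgroupOf M).Normal := (normal_subgroupOf_iff_le_normalizer H.le).mpr H.norm
  have hsyl : ∀ p : ℕ, p.Prime → p ∣ Nat.card K → ¬ p ∣ (K.subgroupOf M).index := by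
    intro p hp hpK
    haveI := Fact.mk hp
    obtain ⟨Q⟩ : Nonempty (Sylow p M) := inferInstance
    have hKc : Nat.card (K.subgroupOf M) = Nat.card K := Nat.card_congr (subgroupOfEquivOfLe H.le).toEquiv
    have hQK : (Q : Subgroup M) ≤ K.subgroupOf M := by
      obtain ⟨T⟩ : Nonempty (Sylow p (K.subgroupOf M)) := inferInstance
      have hTne : (T : Subgroup (K.subgroupOf M)) ≠ ⊥ := T.ne_bot_of_dvd_card (hKc ▸ hpK)
      obtain ⟨R, hR'⟩ := (T.2.map (K.subgroupOf M).subtype).exists_le_sylow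
      obtain ⟨g, hg⟩ := MulAction.exists_smul_eq M R Q
      obtain ⟨u, hu, hu1⟩ := (Subgroup.bot_or_exists_ne_one _).resolve_left hTne
      have huQ : g * (u : M) * g⁻¹ ∈ (Q : Subgroup M) := by
        rw [← hg, Sylow.coe_subgroup_smul, Subgroup.mem_pointwise_smul_iff_inv_smul_mem]
        have := hR' (mem_map_of_mem _ hu)
        simpa [MulAut.smul_def, mul_assoc] using this
      have huK : g * (u : M) * g⁻¹ ∈ K.subgroupOf M := hKn.conj_mem _ u.2 g
      haveI : ((K.subgroupOf M).subgroupOf (Q : Subgroup M)).Normal := inferInstance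
      haveI : Group.IsNilpotent (Q : Subgroup M) := Q.2.isNilpotent
      have hne : (K.subgroupOf M).subgroupOf (Q : Subgroup M) ≠ ⊥ := fun e0 => hu1 (by
        have hmem : (⟨_, huQ⟩ : (Q : Subgroup M)) ∈ (K.subgroupOf M).subgroupOf (Q : Subgroup M) := huK
        rw [e0, mem_bot] at hmem
        have := congrArg Subtype.val hmem
        exact Subtype.ext (conj_eq_one_iff.mp this))
      have hnd : ¬ Disjoint ((K.subgroupOf M).subgroupOf (Q : Subgroup M)) (center (Q : Subgroup M)) := by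
        intro hd
        exact Core.inf_center_ne_bot hne hd.eq_bot
      rw [disjoint_iff] at hnd
      obtain ⟨c, hc, hc1⟩ := (Subgroup.bot_or_exists_ne_one _).resolve_left hnd
      intro s hs
      exact H.cent_le (x := ((c : M) : G)) hc.1
        (fun e0 => hc1 (Subtype.ext (Subtype.ext e0)))
        (congrArg (fun w : (Q : Subgroup M) => ((w : M) : G)) (mem_center_iff.mp hc.2 ⟨s, hs⟩))
    intro hd
    exact Q.not_dvd_index (hd.trans (index_dvd_of_le hQK))
  have hidx : (K.subgroupOf M).index ≠ 1 := fun e0 => hKM (le_antisymm H.le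
    (subgroupOf_eq_top.mp (index_eq_one.mp e0)))
  obtain ⟨q, hq, hqd⟩ := Nat.exists_prime_and_dvd hidx
  haveI := Fact.mk hq
  obtain ⟨c, hc⟩ := exists_prime_orderOf_dvd_card' (G := M) q (hqd.trans (index_dvd_card _))
  have hcK : (c : G) ∉ K := fun hcK => hsyl q hq (by
    rw [← hc, ← Subgroup.orderOf_coe]; exact Subgroup.orderOf_dvd_natCard K hcK) hqd
  have hnil : Group.IsNilpotent K := by
    refine Fusion.isNilpotent_of_fpf_prime hq (by rw [← hc, ← Subgroup.orderOf_coe, pow_orderOf_eq_one])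
      (H.norm c.2) ?_
    rw [eq_bot_iff]
    rintro x ⟨hxK, hxc⟩
    exact mem_bot.mpr (H.fpf c c.2 hcK x hxK (mem_centralizer_singleton_iff.mp hxc))
  -- the Sylow subgroup is characteristic in `K`, and a TI subgroup
  haveI := hnil
  let T : Sylow 2 K := S.subtype hSK
  have hSconj : ∀ g ∈ M, MulAut.conj g • (S : Subgroup G) = S := by
    intro g hg
    haveI : (T : Subgroup K).Normal := inferInstance
    refine eq_of_le_of_card_ge (fun x hx => ?_) (Nat.card_congr (Subgroup.equivSMul (MulAut.conj g) (S : Subgroup G)).toEquiv).le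
    rw [mem_smul_pointwise_iff_exists] at hx
    obtain ⟨s, hs, rfl⟩ := hx
    show g * s * g⁻¹ ∈ (S : Subgroup G)
    obtain ⟨k, hk⟩ := IsPGroup.iff_orderOf.mp S.2 ⟨s, hs⟩
    have hx2 : IsPGroup 2 (zpowers (⟨g * s * g⁻¹, H.conj_mem hg (hSK hs)⟩ : K)) :=
      IsPGroup.of_card (n := k) (by
        rw [Nat.card_zpowers, Subgroup.orderOf_mk, Invol.orderOf_conj, ← Subgroup.orderOf_mk s hs, hk])
    have := le_normal_sylow T hx2 (mem_zpowers _)
    exact this
  have hTI : ∀ g : G, MulAut.conj g • (S : Subgroup G) ≠ S → MulAut.conj g • (S : Subgroup G) ⊓ S = ⊥ := by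
    intro g hg
    rw [eq_bot_iff]
    rintro x ⟨hx, hxS⟩
    by_contra hx1
    obtain ⟨s, hs, rfl⟩ := (mem_smul_pointwise_iff_exists x (MulAut.conj g) (S : Subgroup G)).mp hx
    exact hg (hSconj g (H.mem_of_conj (hSK hs) (fun e0 => hx1 (by rw [e0]; simp)) (hSK hxS)))
  have hnn : ¬ (S : Subgroup G).Normal := fun hn => by
    haveI : Group.IsNilpotent (S : Subgroup G) := S.2.isNilpotent
    exact hS1 (hR _ hn inferInstance)
  -- `a` is central in `K`
  have hcent : ∀ x ∈ K, Commute x a := by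
    let Ca : Subgroup K := (centralizer ({a} : Set G)).subgroupOf K
    suffices hCa : Ca = ⊤ by
      intro x hx
      have hmem : (⟨x, hx⟩ : K) ∈ Ca := hCa ▸ mem_top _
      exact mem_centralizer_singleton_iff.mp hmem
    refine eq_top_of_le_card _ (Nat.le_of_dvd Nat.card_pos ?_)
    rw [Nat.dvd_iff_prime_pow_dvd_dvd]
    intro p k hp hpk
    haveI := Fact.mk hp
    obtain ⟨P⟩ : Nonempty (Sylow p K) := inferInstance
    have hle : (P : Subgroup K) ≤ Ca := by
      intro x hx
      refine mem_centralizer_singleton_iff.mpr ?_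
      rcases eq_or_ne p 2 with rfl | hp2
      · haveI : (T : Subgroup K).Normal := inferInstance
        exact haz _ (le_normal_sylow T P.2 hx)
      · haveI : (T : Subgroup K).Normal := inferInstance
        haveI : (P : Subgroup K).Normal := inferInstance
        exact congrArg Subtype.val (Subgroup.commute_of_normal_of_disjoint (P : Subgroup K) T inferInstance
          inferInstance (IsPGroup.disjoint_of_ne p 2 hp2 _ _ P.2 T.2) x ⟨a, hSK haS⟩ hx
          (show a ∈ (S : Subgroup G) from haS))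
    refine dvd_trans ?_ (card_dvd_of_le hle)
    rw [Sylow.card_eq_multiplicity]
    exact pow_dvd_pow p ((hp.pow_dvd_iff_le_factorization Nat.card_pos.ne').mp hpk)
  have hHyp : SuzukiTI.Hyp K := by
    refine ⟨fun e0 => ?_, ⟨a, b, hSK haS, hSK hbS, ⟨ha1, haa⟩, ⟨hb1, hbb⟩, hab.symm⟩, fun t ht ht2 => ?_,
      fun y hy hy1 g hg => H.cent_le hy hy1 (mem_centralizer_singleton_iff.mp hg)⟩
    · haveI : K.Normal := normalizer_eq_top_iff.mp e0
      exact hK1 (hR K inferInstance inferInstance)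
    refine le_antisymm (fun g hg => H.cent_le ht ht2.1 (mem_centralizer_singleton_iff.mp hg)) fun x hx => ?_
    rw [mem_centralizer_singleton_iff]
    obtain ⟨g, hg⟩ := isConj_iff.mp (S0231.result S hnn hTI a t ha2 (SuzukiTI.orderOf_inv2 ht2))
    have hgM : g ∈ M := H.mem_of_conj (hSK haS) ha1 (by rw [hg]; exact ht)
    have hx' : g⁻¹ * x * g ∈ K := by
      have := H.conj_mem (inv_mem hgM) hx
      rwa [inv_inv] at this
    have h3 := (Commute.conj_iff g).mpr (hcent _ hx')
    rw [hg, show g * (g⁻¹ * x * g) * g⁻¹ = x by group] at h3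
    exact h3
  rcases SuzukiUniq.hyp_iso hHyp with ⟨F, iF, iFf, hchar, h4, e, -⟩ | h
  · exact Or.inl ⟨F, iF, iFf, hchar, h4, e⟩
  · exact Or.inr h

end Cfsg.Agent.FrobSystem
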